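import Mathlib

/-!
# Connected fibres of `Spec A ×_{Spec R₀} X → X` when `A ⊗ κ` is a domain for all fields `κ`
-/

set_option autoImplicit false
universe u

open CategoryTheory CategoryTheory.Limits AlgebraicGeometry TensorProduct

namespace Groth.Agent.Lib.Helper19.TorusConn

/-- Fibres of the base change of `Spec A → Spec R₀` are preconnected as soon as `A ⊗ κ` is a domain
for every `R₀`-field `κ`. -/
theorem isPreconnected_fibre {R₀ A : Type u} [CommRing R₀] [CommRing A] [Algebra R₀ A]
    (hA : ∀ (κ : Type u) [Field κ] [Algebra R₀ κ], IsDomain (A ⊗[R₀] κ))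
    {X : Scheme.{u}} (g : X ⟶ Spec (CommRingCat.of R₀)) (x : X) :
    _root_.IsPreconnected
      ((pullback.snd (Spec.map (CommRingCat.ofHom (algebraMap R₀ A))) g) ⁻¹' {x}) := by
  set a := Spec.map (CommRingCat.ofHom (algebraMap R₀ A)) with ha
  set p := pullback.snd a g with hp
  rw [← Scheme.Hom.range_fiberι p x]
  let φ : CommRingCat.of R₀ ⟶ X.residueField x := Spec.preimage (X.fromSpecResidueField x ≫ g)
  have hφ : Spec.map φ = X.fromSpecResidueField x ≫ g := Spec.map_preimage _
  letI : Algebra R₀ (X.residueField x) := φ.hom.toAlgebra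
  have hφ' : Spec.map (CommRingCat.ofHom (algebraMap R₀ (X.residueField x))) =
      X.fromSpecResidueField x ≫ g := hφ
  haveI := hA (X.residueField x)
  let e1 : p.fiber x ≅ pullback a (X.fromSpecResidueField x ≫ g) :=
    pullbackLeftPullbackSndIso a g (X.fromSpecResidueField x)
  let e2 : pullback a (X.fromSpecResidueField x ≫ g) ≅
      pullback a (Spec.map (CommRingCat.ofHom (algebraMap R₀ (X.residueField x)))) :=
    pullback.congrHom rfl hφ'.symm
  let e3 := pullbackSpecIso R₀ A (X.residueField x)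
  let e : p.fiber x ≅ Spec (CommRingCat.of (A ⊗[R₀] X.residueField x)) := e1 ≪≫ e2 ≪≫ e3
  haveI : ConnectedSpace ↥(Spec (CommRingCat.of (A ⊗[R₀] X.residueField x))) :=
    inferInstanceAs (ConnectedSpace (PrimeSpectrum (A ⊗[R₀] X.residueField x)))
  haveI : ConnectedSpace ↥(p.fiber x) :=
    e.inv.homeomorph.surjective.connectedSpace e.inv.homeomorph.continuous
  exact isPreconnected_range (p.fiberι x).continuous

/-- The group algebra of `ℤ^r` stays a domain after base change to a field. -/
theorem isDomain_monoidAlgebra_tensor (R₀ : Type u) [CommRing R₀] (r : ℕ)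
    (κ : Type u) [Field κ] [Algebra R₀ κ] :
    IsDomain (MonoidAlgebra R₀ (Multiplicative (Fin r → ℤ)) ⊗[R₀] κ) := by
  let e : MonoidAlgebra R₀ (Multiplicative (Fin r → ℤ)) ⊗[R₀] κ ≃+*
      MonoidAlgebra κ (Multiplicative (Fin r → ℤ)) :=
    (Algebra.TensorProduct.comm R₀ _ κ).toRingEquiv.trans
      (MonoidAlgebra.scalarTensorEquiv R₀ κ).toRingEquiv
  exact e.toMulEquiv.isDomain _

end Groth.Agent.Lib.Helper19.TorusConn
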