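import Mathlib
import Groth.Prelude.Def_Red
import Groth.Agent.Lib.Helper19.Grp.AdjPoints
import Groth.Agent.Lib.Helper19.Grp.Homogeneity
import Groth.Agent.Lib.Helper19.Torus.FibreConn

/-!
# A torus over a field is connected
-/

set_option autoImplicit false
set_option linter.style.haveILetI false
universe u

open CategoryTheory CategoryTheory.Limits AlgebraicGeometry MonoidalCategory
  CartesianMonoidalCategory MonObj GrpObj

namespace Groth.Agent.Lib.Helper19.TorusConn

/-- The unit section of a base change lies over the unit section. -/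
theorem unit_bc_fst {S S' : Scheme.{u}} (g : S' ⟶ S) (T : Over S) [GrpObj T] :
    (η[Red.bc g T] : 𝟙_ (Over S') ⟶ Red.bc g T).left ≫ pullback.fst T.hom g =
      g ≫ (η[T] : 𝟙_ (Over S) ⟶ T).left := by
  have h1 := map_one (CommWords.homMulEquiv (Over.mapPullbackAdj g) T (𝟙_ (Over S')))
  have h2 : (1 : 𝟙_ (Over S') ⟶ (Over.pullback g).obj T) = η[Red.bc g T] := by
    rw [Hom.one_def]
    have : toUnit (𝟙_ (Over S')) = 𝟙 _ := toUnit_unique _ _
    rw [this, Category.id_comp]
  have h3 : ∀ φ : (Over.map g).obj (𝟙_ (Over S')) ⟶ T,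
      (((Over.mapPullbackAdj g).homEquiv (𝟙_ (Over S')) T) φ).left ≫ pullback.fst T.hom g =
        φ.left := by
    intro φ
    simp only [Over.mapPullbackAdj, Adjunction.mkOfHomEquiv_homEquiv, Equiv.coe_fn_mk,
      Over.homMk_left]
    exact pullback.lift_fst _ _ _
  rw [← h2, ← h1, CommWords.homMulEquiv_apply, h3, Hom.one_def, Over.comp_left, toUnit_left_eq]
  change (𝟙 _ ≫ g) ≫ _ = _
  rw [Category.id_comp]

theorem connectedSpace_of_isTorus {K : Type u} [Field K] (T : Over (Spec (CommRingCat.of K)))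
    [GrpObj T] (hT : Red.IsTorus T) : ConnectedSpace T.left := by
  obtain ⟨S', f, -, hsurj, -, hloc⟩ := hT
  let pt : Spec (CommRingCat.of K) := IsLocalRing.closedPoint K
  haveI hsub : Subsingleton ↥(Spec (CommRingCat.of K)) :=
    inferInstanceAs (Subsingleton (PrimeSpectrum K))
  obtain ⟨s', -⟩ := hsurj.surj pt
  obtain ⟨U, hs'U, r, ⟨e⟩⟩ := hloc s'
  set g : (U : Scheme.{u}) ⟶ Spec (CommRingCat.of K) := U.ι ≫ f with hg
  let ψ : Red.bc g T ≅ Red.DS (U : Scheme.{u}) (Fin r → ℤ) := (Grp.forget _).mapIso e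
  let ψl : (Red.bc g T).left ≅ (Red.DS (U : Scheme.{u}) (Fin r → ℤ)).left :=
    (Over.forget _).mapIso ψ
  have hψl : ψl.hom ≫ (Red.DS (U : Scheme.{u}) (Fin r → ℤ)).hom = (Red.bc g T).hom :=
    Over.w ψ.hom
  let eT : T.left := (η[T] : 𝟙_ (Over (Spec (CommRingCat.of K))) ⟶ T).left pt
  have hsurjg : Function.Surjective g.base := fun y => ⟨⟨s', hs'U⟩, Subsingleton.elim _ _⟩
  haveI : Surjective g := ⟨hsurjg⟩
  have hpre : _root_.IsPreconnected (Set.univ : Set T.left) := by
    refine isPreconnected_of_forall eT ?_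
    intro b _
    obtain ⟨z, hz⟩ := (pullback.fst T.hom g).surjective b
    let u : (U : Scheme.{u}) := (Red.bc g T).hom z
    have hD : _root_.IsPreconnected ((Red.DS (U : Scheme.{u}) (Fin r → ℤ)).hom ⁻¹' {u}) :=
      isPreconnected_fibre (fun κ _ _ => isDomain_monoidAlgebra_tensor (ULift.{u} ℤ) r κ)
        (Limits.IsTerminal.from specULiftZIsTerminal (U : Scheme.{u})) u
    have hF : _root_.IsPreconnected ((Red.bc g T).hom ⁻¹' {u}) := by
      have h1 : (Red.bc g T).hom ⁻¹' {u} =
          ψl.hom.homeomorph ⁻¹' ((Red.DS (U : Scheme.{u}) (Fin r → ℤ)).hom ⁻¹' {u}) := by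
        ext w
        simp only [Set.mem_preimage, Set.mem_singleton_iff]
        rw [← hψl]
        rfl
      rw [h1, Homeomorph.isPreconnected_preimage]
      exact hD
    refine ⟨(pullback.fst T.hom g) '' ((Red.bc g T).hom ⁻¹' {u}), Set.subset_univ _, ?_, ?_,
      hF.image _ (pullback.fst T.hom g).continuous.continuousOn⟩
    · refine ⟨(η[Red.bc g T] : 𝟙_ (Over (U : Scheme.{u})) ⟶ Red.bc g T).left u, ?_, ?_⟩
      · simp only [Set.mem_preimage, Set.mem_singleton_iff]
        rw [← Scheme.Hom.comp_apply, Over.w]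
        rfl
      · rw [← Scheme.Hom.comp_apply, unit_bc_fst, Scheme.Hom.comp_apply]
        exact congrArg _ (Subsingleton.elim _ _)
    · exact ⟨z, rfl, hz⟩
  haveI : PreconnectedSpace T.left := ⟨hpre⟩
  exact ⟨⟨eT⟩⟩

end Groth.Agent.Lib.Helper19.TorusConn
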