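import Mathlib
import Groth.Prelude.Def_Red
import Groth.Agent.Lib.Helper19.Grp.Homogeneity

/-!
# The kernel scheme of a homomorphism of group schemes over a base
-/

set_option autoImplicit false
set_option linter.style.haveILetI false
set_option linter.unusedSectionVars false
universe u

open CategoryTheory CategoryTheory.Limits AlgebraicGeometry MonoidalCategory
  CartesianMonoidalCategory MonObj GrpObj

namespace Groth.Agent.Lib.Helper19.SemiKernel

variable {S : Scheme.{u}}

/-- The unit section of an `S`-group as a morphism of schemes. -/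
noncomputable def unitSec (G : Over S) [GrpObj G] : S ⟶ G.left :=
  (η[G] : 𝟙_ (Over S) ⟶ G).left

lemma unitSec_hom (G : Over S) [GrpObj G] : unitSec G ≫ G.hom = 𝟙 S := by
  have := Over.w (η[G] : 𝟙_ (Over S) ⟶ G)
  exact this

lemma one_left (G : Over S) [GrpObj G] (Y : Over S) :
    (1 : Y ⟶ G).left = Y.hom ≫ unitSec G := by
  rw [Hom.one_def, Over.comp_left, Groth.Agent.Lib.Helper19.toUnit_left_eq]
  rfl

lemma eq_one_iff_left (G : Over S) [GrpObj G] {Y : Over S} (y : Y ⟶ G) :
    y = 1 ↔ y.left = Y.hom ≫ unitSec G := by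
  constructor
  · rintro rfl; exact one_left G Y
  · intro h
    apply Over.OverMorphism.ext
    rw [h, one_left]

variable {P G : Over S} [GrpObj P] [GrpObj G] (f : P ⟶ G) [IsMonHom f]

lemma unitSec_comp : unitSec P ≫ f.left = unitSec G := by
  have h : (η[P] : 𝟙_ (Over S) ⟶ P) ≫ f = η[G] := IsMonHom.one_hom f
  exact congrArg (fun φ => φ.left) h

/-- The kernel scheme. -/
noncomputable def K₀ : Scheme.{u} := pullback f.left (unitSec G)

noncomputable def k₁ : K₀ f ⟶ P.left := pullback.fst f.left (unitSec G)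

noncomputable def π : K₀ f ⟶ S := pullback.snd f.left (unitSec G)

lemma k₁_comp : k₁ f ≫ f.left = π f ≫ unitSec G := pullback.condition

lemma k₁_hom : k₁ f ≫ P.hom = π f := by
  rw [← Over.w f, ← Category.assoc, k₁_comp, Category.assoc, unitSec_hom, Category.comp_id]

instance : Mono (k₁ f) := by
  have : Mono (unitSec G) := by
    have : Mono (unitSec G ≫ G.hom) := by rw [unitSec_hom]; infer_instance
    exact mono_of_mono (unitSec G) G.hom
  unfold k₁; exact pullback.fst_of_mono

/-- The unit section of the kernel. -/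
noncomputable def e₀ : S ⟶ K₀ f :=
  pullback.lift (unitSec P) (𝟙 S) (by rw [unitSec_comp, Category.id_comp])

lemma e₀_k₁ : e₀ f ≫ k₁ f = unitSec P := pullback.lift_fst _ _ _

lemma e₀_π : e₀ f ≫ π f = 𝟙 S := pullback.lift_snd _ _ _

/-- A point of `P` killed by `f` lifts to the kernel scheme. -/
noncomputable def lift {Y : Over S} (y : Y ⟶ P) (hy : y ≫ f = 1) : Y.left ⟶ K₀ f :=
  pullback.lift y.left Y.hom (by rw [← Over.comp_left, hy, one_left])

lemma lift_k₁ {Y : Over S} (y : Y ⟶ P) (hy : y ≫ f = 1) : lift f y hy ≫ k₁ f = y.left :=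
  pullback.lift_fst _ _ _

lemma lift_π {Y : Over S} (y : Y ⟶ P) (hy : y ≫ f = 1) : lift f y hy ≫ π f = Y.hom :=
  pullback.lift_snd _ _ _

/-- A morphism to the kernel scheme gives a point of `P` killed by `f`. -/
noncomputable def pt {Z : Scheme.{u}} (z : Z ⟶ K₀ f) : Over.mk (z ≫ π f) ⟶ P :=
  Over.homMk (z ≫ k₁ f) (by
    change (z ≫ k₁ f) ≫ P.hom = z ≫ π f
    rw [Category.assoc, k₁_hom])

lemma pt_left {Z : Scheme.{u}} (z : Z ⟶ K₀ f) : (pt f z).left = z ≫ k₁ f := rfl

lemma pt_comp {Z : Scheme.{u}} (z : Z ⟶ K₀ f) : pt f z ≫ f = 1 := by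
  rw [eq_one_iff_left, Over.comp_left, pt_left, Category.assoc, k₁_comp]
  rfl

lemma eq_of_pt_eq_one {Z : Scheme.{u}} (z : Z ⟶ K₀ f) (h : pt f z = 1) :
    z = (z ≫ π f) ≫ e₀ f := by
  rw [← cancel_mono (k₁ f), Category.assoc, e₀_k₁, ← pt_left, h, one_left]
  rfl

lemma lift_eq_of_eq_one {Y : Over S} (y : Y ⟶ P) (hy : y ≫ f = 1) (h : lift f y hy = Y.hom ≫ e₀ f) :
    y = 1 := by
  rw [eq_one_iff_left, ← lift_k₁ f y hy, h, Category.assoc, e₀_k₁]

end Groth.Agent.Lib.Helper19.SemiKernel
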