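import Mathlib
import Groth.Prelude.Def_Red
import Groth.Agent.Lib.Helper19.Torus.FibreConn
import Groth.Agent.Lib.Helper19.Torus.SemiKernel

/-!
# The fibre of a torus over a field-valued point of the base is connected
-/

set_option autoImplicit false
set_option linter.style.haveILetI false
set_option linter.unusedSectionVars false
universe u

open CategoryTheory CategoryTheory.Limits AlgebraicGeometry MonoidalCategory
  CartesianMonoidalCategory MonObj GrpObj

namespace Groth.Agent.Lib.Helper19.TorusConn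

open Groth.Agent.Lib.Helper19.SemiKernel (unitSec unitSec_hom)

variable {S : Scheme.{u}}

/-- The fibre of a torus over a field-valued point of the base is connected. -/
theorem preconnectedSpace_pullback_of_isTorus (T : Over S) [GrpObj T] (hT : Red.IsTorus T)
    {K : Type u} [Field K] (g : Spec (CommRingCat.of K) ⟶ S) :
    PreconnectedSpace ↑(pullback T.hom g) := by
  obtain ⟨S', f, -, hsurj, -, hloc⟩ := hT
  let pt : Spec (CommRingCat.of K) := IsLocalRing.closedPoint K
  haveI hsub : Subsingleton ↥(Spec (CommRingCat.of K)) :=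
    inferInstanceAs (Subsingleton (PrimeSpectrum K))
  obtain ⟨s', hs'⟩ := hsurj.surj (g pt)
  obtain ⟨U, hs'U, r, ⟨e⟩⟩ := hloc s'
  set h : (U : Scheme.{u}) ⟶ S := U.ι ≫ f with hh
  let ψ : Red.bc h T ≅ Red.DS (U : Scheme.{u}) (Fin r → ℤ) := (Grp.forget _).mapIso e
  let ψl : pullback T.hom h ≅ (Red.DS (U : Scheme.{u}) (Fin r → ℤ)).left :=
    (Over.forget _).mapIso ψ
  have hψl : ψl.hom ≫ (Red.DS (U : Scheme.{u}) (Fin r → ℤ)).hom = pullback.snd T.hom h :=
    Over.w ψ.hom
  -- Q = U ×_S Spec K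
  let Q := pullback h g
  let q₁ : Q ⟶ (U : Scheme.{u}) := pullback.fst h g
  let q₂ : Q ⟶ Spec (CommRingCat.of K) := pullback.snd h g
  have hq : q₁ ≫ h = q₂ ≫ g := pullback.condition
  obtain ⟨z₀, -, -⟩ := Scheme.Pullback.exists_preimage_pullback (f := h) (g := g)
    (⟨s', hs'U⟩ : (U : Scheme.{u})) pt (by
      rw [hh, Scheme.Hom.comp_apply]
      exact hs')
  have hq₂surj : Function.Surjective q₂ := fun y => ⟨z₀, Subsingleton.elim _ _⟩
  haveI : Surjective q₂ := ⟨hq₂surj⟩
  -- T_K and T_Q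
  let TK := pullback T.hom g
  let b : TK ⟶ Spec (CommRingCat.of K) := pullback.snd T.hom g
  let TQ := pullback b q₂
  let c : TQ ⟶ Q := pullback.snd b q₂
  let d : TQ ⟶ TK := pullback.fst b q₂
  haveI : Surjective d := inferInstance
  let a : TK ⟶ T.left := pullback.fst T.hom g
  have sqK : IsPullback a b T.hom g := IsPullback.of_hasPullback _ _
  have sqQ : IsPullback d c b q₂ := IsPullback.of_hasPullback _ _
  have sq1 : IsPullback (d ≫ a) c T.hom (q₁ ≫ h) := by
    rw [hq]
    exact sqQ.paste_horiz sqK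
  let l : TQ ⟶ pullback T.hom h := pullback.lift (d ≫ a) (c ≫ q₁) (by
    rw [Category.assoc, Category.assoc]; exact sq1.w)
  have hl1 : l ≫ pullback.fst T.hom h = d ≫ a := pullback.lift_fst _ _ _
  have hl2 : l ≫ pullback.snd T.hom h = c ≫ q₁ := pullback.lift_snd _ _ _
  have sq2 : IsPullback l c (pullback.snd T.hom h) q₁ := by
    refine IsPullback.of_right ?_ hl2 (IsPullback.of_hasPullback T.hom h)
    rw [hl1]
    exact sq1
  have sqψ : IsPullback ψl.hom (pullback.snd T.hom h)
      (Red.DS (U : Scheme.{u}) (Fin r → ℤ)).hom (𝟙 _) :=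
    IsPullback.of_horiz_isIso ⟨by rw [hψl, Category.comp_id]⟩
  have sq3 := sq2.paste_horiz sqψ
  have sqD : IsPullback (pullback.fst (Red.diag (ULift.{u} ℤ) (Fin r → ℤ)).hom
      (Limits.IsTerminal.from specULiftZIsTerminal (U : Scheme.{u})))
      (Red.DS (U : Scheme.{u}) (Fin r → ℤ)).hom (Red.diag (ULift.{u} ℤ) (Fin r → ℤ)).hom
      (Limits.IsTerminal.from specULiftZIsTerminal (U : Scheme.{u})) :=
    IsPullback.of_hasPullback _ _
  have sq4 := sq3.paste_horiz sqD
  let θ := sq4.isoPullback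
  have hθ : θ.hom ≫ pullback.snd _ _ = c := sq4.isoPullback_hom_snd
  have hfib : ∀ u : Q, _root_.IsPreconnected (c ⁻¹' {u}) := by
    intro u
    have hD := isPreconnected_fibre
      (fun κ _ _ => isDomain_monoidAlgebra_tensor (ULift.{u} ℤ) r κ)
      ((q₁ ≫ 𝟙 _) ≫ Limits.IsTerminal.from specULiftZIsTerminal (U : Scheme.{u})) u
    have h1 : c ⁻¹' {u} = θ.hom.homeomorph ⁻¹' ((pullback.snd (Red.diag (ULift.{u} ℤ) (Fin r → ℤ)).hom
        ((q₁ ≫ 𝟙 _) ≫ Limits.IsTerminal.from specULiftZIsTerminal (U : Scheme.{u}))) ⁻¹' {u}) := by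
      ext w
      simp only [Set.mem_preimage, Set.mem_singleton_iff]
      rw [← hθ]
      rfl
    rw [h1, Homeomorph.isPreconnected_preimage]
    exact hD
  -- unit sections
  let εK : Spec (CommRingCat.of K) ⟶ TK := pullback.lift (g ≫ unitSec T) (𝟙 _)
    (by rw [Category.assoc, unitSec_hom, Category.comp_id, Category.id_comp])
  have hεK : εK ≫ b = 𝟙 _ := pullback.lift_snd _ _ _
  let εQ : Q ⟶ TQ := pullback.lift (q₂ ≫ εK) (𝟙 _)
    (by rw [Category.assoc, hεK, Category.comp_id, Category.id_comp])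
  have hεQ1 : εQ ≫ d = q₂ ≫ εK := pullback.lift_fst _ _ _
  have hεQ2 : εQ ≫ c = 𝟙 _ := pullback.lift_snd _ _ _
  let eK : TK := εK pt
  have hpre : _root_.IsPreconnected (Set.univ : Set TK) := by
    refine isPreconnected_of_forall eK ?_
    intro b₀ _
    obtain ⟨z, hz⟩ := d.surjective b₀
    let u : Q := c z
    refine ⟨d '' (c ⁻¹' {u}), Set.subset_univ _, ?_, ?_,
      (hfib u).image _ d.continuous.continuousOn⟩
    · refine ⟨εQ u, ?_, ?_⟩
      · simp only [Set.mem_preimage, Set.mem_singleton_iff]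
        rw [← Scheme.Hom.comp_apply, hεQ2]
        rfl
      · rw [← Scheme.Hom.comp_apply, hεQ1, Scheme.Hom.comp_apply]
        exact congrArg _ (Subsingleton.elim _ _)
    · exact ⟨z, rfl, hz⟩
  exact ⟨hpre⟩

end Groth.Agent.Lib.Helper19.TorusConn
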