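import Mathlib
import Groth.Prelude.Def_Red
import Groth.Prelude.Def_GmPts
import Groth.Prelude.Def_AlgGrp
import Groth.Agent.Lib.Helper81.KPointsDense

/-!
# Rigidity for morphisms to étale separated schemes, groups with a single rational point,
and decomposition in a semi-direct product
-/

set_option autoImplicit false
set_option linter.style.haveILetI false
set_option linter.unusedSectionVars false
universe u

open CategoryTheory CategoryTheory.Limits AlgebraicGeometry MonoidalCategory
  CartesianMonoidalCategory MonObj GrpObj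

namespace Groth.Agent.Lib.Helper19.EtaleNormal


/-- Rigidity: two morphisms from a connected scheme to a scheme with open and closed diagonal over
`X`, agreeing over `X` and at one point, are equal. -/
theorem eq_of_eq_at_point {T V X W : Scheme.{u}} [PreconnectedSpace T] [Nonempty W] (w : W ⟶ T)
    (f g : T ⟶ V) (s : V ⟶ X) [IsOpenImmersion (pullback.diagonal s)] [IsSeparated s]
    (hfg : f ≫ s = g ≫ s) (hw : w ≫ f = w ≫ g) : f = g := by
  let k : T ⟶ pullback s s := pullback.lift f g hfg
  have hk1 : k ≫ pullback.fst s s = f := pullback.lift_fst _ _ _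
  have hk2 : k ≫ pullback.snd s s = g := pullback.lift_snd _ _ _
  let p := pullback.snd (pullback.diagonal s) k
  haveI : IsOpenImmersion p := inferInstance
  haveI : IsClosedImmersion p := inferInstance
  have hclopen : IsClopen (Set.range p) :=
    ⟨p.isClosedEmbedding.isClosed_range, p.isOpenEmbedding.isOpen_range⟩
  have hne : (Set.range p).Nonempty := by
    have hu : (w ≫ f) ≫ pullback.diagonal s = w ≫ k := by
      apply pullback.hom_ext
      · rw [Category.assoc, Category.assoc, Category.assoc, hk1, pullback.diagonal_fst,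
          Category.comp_id]
      · rw [Category.assoc, Category.assoc, Category.assoc, hk2, pullback.diagonal_snd,
          Category.comp_id, hw]
    obtain ⟨w₀⟩ := ‹Nonempty W›
    refine ⟨w w₀, ?_⟩
    have : w = pullback.lift (w ≫ f) w hu ≫ p := by rw [pullback.lift_snd]
    rw [this, Scheme.Hom.comp_apply]
    exact ⟨_, rfl⟩
  have huniv : Set.range p = Set.univ := hclopen.eq_univ hne
  haveI : Surjective p := ⟨fun x => by
    have : x ∈ Set.range p := huniv ▸ Set.mem_univ x
    exact this⟩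
  haveI : IsIso p := (isIso_iff_isOpenImmersion_and_surjective _).mpr ⟨inferInstance, inferInstance⟩
  rw [← cancel_epi p]
  have h1 : p ≫ f = pullback.fst (pullback.diagonal s) k := by
    rw [← hk1, ← pullback.condition_assoc, pullback.diagonal_fst, Category.comp_id]
  have h2 : p ≫ g = pullback.fst (pullback.diagonal s) k := by
    rw [← hk2, ← pullback.condition_assoc, pullback.diagonal_snd, Category.comp_id]
  rw [h1, h2]



/-- A smooth group over a separably closed field whose only rational point is the unit is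
trivial. -/
theorem isTrivialGrp_of_forall_pt_eq_one {K : Type u} [Field K] [IsSepClosed K]
    (N : Over (Spec (CommRingCat.of K))) [GrpObj N] [Smooth N.hom]
    (h : ∀ x : 𝟙_ (Over (Spec (CommRingCat.of K))) ⟶ N, x = η[N]) : Red.IsTrivialGrp N := by
  haveI : Subsingleton ↥(𝟙_ (Over (Spec (CommRingCat.of K)))).left :=
    inferInstanceAs (Subsingleton (PrimeSpectrum K))
  haveI : IsAffine (𝟙_ (Over (Spec (CommRingCat.of K)))).left :=
    inferInstanceAs (IsAffine (Spec (CommRingCat.of K)))
  haveI : IsClosedImmersion (η[N] : 𝟙_ (Over (Spec (CommRingCat.of K))) ⟶ N).left :=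
    Groth.Agent.Lib.Helper72.GrpdPts.isClosedImmersion_of_section (η[N]).left N.hom
      (Over.w η[N])
  let e : Groth.Agent.Lib.Helper81.KPointsDense.SpK K K ≅ 𝟙_ (Over (Spec (CommRingCat.of K))) :=
    Over.isoMk (Iso.refl _) (by
      change 𝟙 _ ≫ 𝟙 _ = Spec.map (CommRingCat.ofHom (algebraMap K K))
      rw [Category.id_comp, Algebra.algebraMap_self]
      exact (Spec.map_id _).symm)
  haveI : IsIso (η[N] : 𝟙_ (Over (Spec (CommRingCat.of K))) ⟶ N) := by
    apply Groth.Agent.Lib.Helper81.KPointsDense.isIso_over_of_kpoints K K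
    intro p
    refine ⟨e.hom, ?_⟩
    rw [← h (e.inv ≫ p), Iso.hom_inv_id_assoc]
  have h1 : (η[N] : 𝟙_ (Over (Spec (CommRingCat.of K))) ⟶ N) ≫ toUnit N = 𝟙 _ :=
    toUnit_unique _ _
  haveI : IsIso (toUnit N) := by
    have : toUnit N = inv (η[N] : 𝟙_ (Over (Spec (CommRingCat.of K))) ⟶ N) := by
      rw [← cancel_epi (η[N] : 𝟙_ (Over (Spec (CommRingCat.of K))) ⟶ N), h1, IsIso.hom_inv_id]
    rw [this]; infer_instance
  have h2 : IsIso ((Over.forget _).map (toUnit N)) := inferInstance
  have h3 : (Over.forget _).map (toUnit N) = N.hom := by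
    change (toUnit N).left = N.hom
    exact Over.w (toUnit N) ▸ (Category.comp_id _).symm
  unfold Red.IsTrivialGrp
  rw [← h3]; exact h2



section decomp

variable {C : Type*} [Category C] [CartesianMonoidalCategory C] {T U P : C} [GrpObj T] [GrpObj U]
  [GrpObj P] (jT : T ⟶ P) (jU : U ⟶ P)

theorem mul_eq_lift_comp {X : C} (a : X ⟶ T) (b : X ⟶ U) :
    (a ≫ jT) * (b ≫ jU) = lift a b ≫ (jT ⊗ₘ jU) ≫ μ[P] := by
  rw [Hom.mul_def, ← Category.assoc]
  congr 1
  apply CartesianMonoidalCategory.hom_ext <;> simp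

theorem snd_eq_of_mul_eq [IsIso ((jT ⊗ₘ jU) ≫ μ[P])] {X : C} {a a' : X ⟶ T} {b b' : X ⟶ U}
    (h : (a ≫ jT) * (b ≫ jU) = (a' ≫ jT) * (b' ≫ jU)) : b = b' := by
  rw [mul_eq_lift_comp, mul_eq_lift_comp, cancel_mono] at h
  have := congrArg (· ≫ snd _ _) h
  simpa using this

theorem exists_decomp [IsIso ((jT ⊗ₘ jU) ≫ μ[P])] {X : C} (y : X ⟶ P) :
    ∃ (a : X ⟶ T) (b : X ⟶ U), y = (a ≫ jT) * (b ≫ jU) := by
  refine ⟨(y ≫ inv ((jT ⊗ₘ jU) ≫ μ[P])) ≫ fst _ _, (y ≫ inv ((jT ⊗ₘ jU) ≫ μ[P])) ≫ snd _ _, ?_⟩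
  rw [mul_eq_lift_comp]
  have : lift ((y ≫ inv ((jT ⊗ₘ jU) ≫ μ[P])) ≫ fst _ _) ((y ≫ inv ((jT ⊗ₘ jU) ≫ μ[P])) ≫ snd _ _) =
      y ≫ inv ((jT ⊗ₘ jU) ≫ μ[P]) := by
    apply CartesianMonoidalCategory.hom_ext <;> simp
  rw [this, Category.assoc, IsIso.inv_hom_id, Category.comp_id]

end decomp

end Groth.Agent.Lib.Helper19.EtaleNormal
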