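import Mathlib
import Groth.Prelude.Def_Red
import Groth.Prelude.Def_Red2
import Groth.Agent.Lib.Helper19.Torus.SemiKernel

/-!
# Tori are locally of finite type (fpqc descent)
-/

set_option autoImplicit false
set_option linter.style.haveILetI false
set_option linter.unusedSectionVars false
universe u

open CategoryTheory CategoryTheory.Limits AlgebraicGeometry MonoidalCategory
  CartesianMonoidalCategory MonObj GrpObj

namespace Groth.Agent.Lib.Helper19.TorusLft


variable {S : Scheme.{u}}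

lemma lft_snd_of_isPullback {X Y Z A : Scheme.{u}} {f : X ⟶ Z} {g : Y ⟶ Z} {a : A ⟶ X} {b : A ⟶ Y}
    (sq : IsPullback a b f g) [LocallyOfFiniteType f] : LocallyOfFiniteType b :=
  MorphismProperty.of_isPullback (P := @LocallyOfFiniteType) sq inferInstance

instance lft_DS (U : Scheme.{u}) (r : ℕ) : LocallyOfFiniteType (Red.DS U (Fin r → ℤ)).hom := by
  haveI : LocallyOfFiniteType (Red.diag (ULift.{u} ℤ) (Fin r → ℤ)).hom := by
    change LocallyOfFiniteType (Spec.map (CommRingCat.ofHom (algebraMap (ULift.{u} ℤ)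
      (MonoidAlgebra (ULift.{u} ℤ) (Multiplicative (Fin r → ℤ))))))
    rw [HasRingHomProperty.Spec_iff (P := @LocallyOfFiniteType)]
    change (algebraMap (ULift.{u} ℤ)
      (MonoidAlgebra (ULift.{u} ℤ) (Multiplicative (Fin r → ℤ)))).FiniteType
    rw [RingHom.finiteType_algebraMap]
    infer_instance
  change LocallyOfFiniteType (pullback.snd _ _)
  infer_instance

instance lft_Ga (U : Scheme.{u}) : LocallyOfFiniteType (Red.Ga U).hom := by
  haveI : LocallyOfFiniteType (Red.GaZ.{u}).hom := by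
    change LocallyOfFiniteType (Spec.map (CommRingCat.ofHom (algebraMap (ULift.{u} ℤ)
      (SymmetricAlgebra (ULift.{u} ℤ) (ULift.{u} ℤ)))))
    rw [HasRingHomProperty.Spec_iff (P := @LocallyOfFiniteType)]
    change (algebraMap (ULift.{u} ℤ) (SymmetricAlgebra (ULift.{u} ℤ) (ULift.{u} ℤ))).FiniteType
    rw [RingHom.finiteType_algebraMap]
    exact Algebra.FiniteType.equiv (inferInstance : Algebra.FiniteType (ULift.{u} ℤ)
      (MvPolynomial Unit (ULift.{u} ℤ)))
      (SymmetricAlgebra.equivMvPolynomial (Module.Basis.singleton Unit (ULift.{u} ℤ))).symm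
  change LocallyOfFiniteType (pullback.snd _ _)
  infer_instance

/-- `T ×_S S' → S'` is locally of finite type for the covering `S'` in the definition of a torus. -/
theorem lft_snd_cover (T : Over S) [GrpObj T] {S' : Scheme.{u}} (f : S' ⟶ S)
    (hloc : ∀ s' : S', ∃ U : S'.Opens, s' ∈ U ∧ ∃ r : ℕ,
      Red.IsSplitTorusWith (Fin r → ℤ) (Red.bc (U.ι ≫ f) T)) :
    LocallyOfFiniteType (pullback.snd T.hom f) := by
  choose U hU r hr using hloc
  have hsup : iSup U = ⊤ := by
    rw [eq_top_iff]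
    intro x _
    exact TopologicalSpace.Opens.mem_iSup.mpr ⟨x, hU x⟩
  rw [IsZariskiLocalAtTarget.iff_of_iSup_eq_top (P := @LocallyOfFiniteType) U hsup]
  intro s'
  obtain ⟨e⟩ := hr s'
  let ψ : Red.bc ((U s').ι ≫ f) T ≅ Red.DS ((U s') : Scheme.{u}) (Fin (r s') → ℤ) :=
    (Grp.forget _).mapIso e
  have hψ : ψ.hom.left ≫ (Red.DS ((U s') : Scheme.{u}) (Fin (r s') → ℤ)).hom =
      pullback.snd T.hom ((U s').ι ≫ f) := Over.w ψ.hom
  haveI : IsIso ψ.hom.left := inferInstanceAs (IsIso ((Over.forget _).map ψ.hom))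
  haveI h1 : LocallyOfFiniteType (pullback.snd T.hom ((U s').ι ≫ f)) := by
    rw [← hψ]; infer_instance
  -- compare with the restriction
  have sq1 := isPullback_morphismRestrict (pullback.snd T.hom f) (U s')
  have sq2 : IsPullback (pullback.fst T.hom f) (pullback.snd T.hom f) T.hom f :=
    IsPullback.of_hasPullback _ _
  have sq3 := sq1.paste_vert sq2.flip
  have e3 := sq3.flip.isoPullback_hom_snd
  rw [← e3]
  infer_instance

theorem locallyOfFiniteType_of_isTorus (T : Over S) [GrpObj T] (hT : Red.IsTorus T) :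
    LocallyOfFiniteType T.hom := by
  obtain ⟨S', f, hflat, hsurj, hcov, hloc⟩ := hT
  haveI := lft_snd_cover T f hloc
  rw [IsZariskiLocalAtTarget.iff_of_iSup_eq_top (P := @LocallyOfFiniteType) _
    (iSup_affineOpens_eq_top S)]
  rintro ⟨V, hV⟩
  change LocallyOfFiniteType (T.hom ∣_ V)
  obtain ⟨W, hWc, hWV⟩ := hcov V hV
  have hle : W ≤ f ⁻¹ᵁ V := by
    intro w hw
    change f w ∈ V
    have : f w ∈ f.base '' (W : Set S') := ⟨w, hw, rfl⟩
    rw [hWV] at this
    exact this
  let h : (W : Scheme.{u}) ⟶ (V : Scheme.{u}) := f.resLE V W hle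
  have hh : h ≫ V.ι = W.ι ≫ f := Scheme.Hom.resLE_comp_ι f hle
  haveI : IsAffine (V : Scheme.{u}) := hV
  haveI : CompactSpace ↥(W : Scheme.{u}) := isCompact_iff_compactSpace.mp hWc
  have hqc : QuasiCompact h := (quasiCompact_iff_compactSpace h).mpr inferInstance
  have hfl : Flat h := by
    haveI : Flat (f ∣_ V) := IsZariskiLocalAtTarget.restrict hflat V
    change Flat (f.resLE V W hle)
    delta Scheme.Hom.resLE
    infer_instance
  have hsj : Surjective h := by
    refine ⟨fun v => ?_⟩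
    have : v.1 ∈ f.base '' (W : Set S') := by rw [hWV]; exact v.2
    obtain ⟨w, hw, hwv⟩ := this
    refine ⟨⟨w, hw⟩, ?_⟩
    apply V.ι.isOpenEmbedding.injective
    rw [← Scheme.Hom.comp_apply, hh, Scheme.Hom.comp_apply]
    exact hwv
  -- the pullback square
  let A := pullback T.hom (W.ι ≫ f)
  have hrange : Set.range (pullback.fst T.hom (W.ι ≫ f)) ⊆ (T.hom ⁻¹ᵁ V).ι.opensRange := by
    rintro _ ⟨a, rfl⟩
    rw [Scheme.Opens.opensRange_ι]
    change T.hom (pullback.fst T.hom (W.ι ≫ f) a) ∈ V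
    have e1 := congrArg (fun φ : pullback T.hom (W.ι ≫ f) ⟶ S => φ a)
      (pullback.condition (f := T.hom) (g := W.ι ≫ f))
    have e2 : pullback.snd T.hom (W.ι ≫ f) ≫ W.ι ≫ f =
        (pullback.snd T.hom (W.ι ≫ f) ≫ h) ≫ V.ι := by rw [Category.assoc, hh]
    simp only [e2] at e1
    rw [Scheme.Hom.comp_apply] at e1
    rw [e1, Scheme.Hom.comp_apply]
    exact (h _).2
  let snd' : A ⟶ (T.hom ⁻¹ᵁ V : Scheme.{u}) :=
    IsOpenImmersion.lift (T.hom ⁻¹ᵁ V).ι (pullback.fst T.hom (W.ι ≫ f)) hrange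
  have hsnd' : snd' ≫ (T.hom ⁻¹ᵁ V).ι = pullback.fst T.hom (W.ι ≫ f) :=
    IsOpenImmersion.lift_fac _ _ _
  have sqo : IsPullback (snd' ≫ (T.hom ⁻¹ᵁ V).ι) (pullback.snd T.hom (W.ι ≫ f)) T.hom
      (h ≫ V.ι) := by
    rw [hsnd', hh]
    exact IsPullback.of_hasPullback _ _
  have sqr : IsPullback (T.hom ⁻¹ᵁ V).ι (T.hom ∣_ V) T.hom V.ι :=
    (isPullback_morphismRestrict T.hom V).flip
  have hcomm : snd' ≫ (T.hom ∣_ V) = pullback.snd T.hom (W.ι ≫ f) ≫ h := by
    rw [← cancel_mono V.ι, Category.assoc, Category.assoc, morphismRestrict_ι, ← Category.assoc,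
      hsnd', hh, pullback.condition]
  have sql : IsPullback snd' (pullback.snd T.hom (W.ι ≫ f)) (T.hom ∣_ V) h :=
    IsPullback.of_right sqo hcomm sqr
  haveI hP : LocallyOfFiniteType (pullback.snd T.hom (W.ι ≫ f)) := by
    have := pullbackLeftPullbackSndIso_hom_snd T.hom f W.ι
    rw [← Iso.eq_inv_comp] at this
    rw [this]
    infer_instance
  exact MorphismProperty.of_isPullback_of_descendsAlong (P := @LocallyOfFiniteType)
    (Q := @Surjective ⊓ @Flat ⊓ @QuasiCompact) sql.flip ⟨⟨hsj, hfl⟩, hqc⟩ hP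


open Groth.Agent.Lib.Helper19.SemiKernel in
/-- The kernel scheme of a homomorphism out of `T ⋉ 𝔾_a` is locally of finite type over the base. -/
theorem lft_π {G T P : Over S} [GrpObj G] [GrpObj T] [GrpObj P] (hT : Red.IsTorus T)
    (jT : T ⟶ P) (jU : Red.Ga S ⟶ P) [IsIso ((jT ⊗ₘ jU) ≫ μ[P])]
    (f : P ⟶ G) [IsMonHom f] [LocallyOfFiniteType G.hom] : LocallyOfFiniteType (π f) := by
  haveI := locallyOfFiniteType_of_isTorus T hT
  haveI : LocallyOfFiniteType (T ⊗ Red.Ga S).hom := by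
    rw [Over.tensorObj_hom]
    infer_instance
  haveI : LocallyOfFiniteType P.hom := by
    have h := Over.w (inv ((jT ⊗ₘ jU) ≫ μ[P]))
    rw [← h]
    haveI : IsIso (inv ((jT ⊗ₘ jU) ≫ μ[P])).left :=
      inferInstanceAs (IsIso ((Over.forget _).map (inv ((jT ⊗ₘ jU) ≫ μ[P]))))
    infer_instance
  haveI : LocallyOfFiniteType (unitSec G) := by
    haveI : LocallyOfFiniteType (unitSec G ≫ G.hom) := by rw [unitSec_hom]; infer_instance
    exact locallyOfFiniteType_of_comp (unitSec G) G.hom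
  haveI : LocallyOfFiniteType (k₁ f) := by
    unfold k₁
    exact MorphismProperty.pullback_fst (P := @LocallyOfFiniteType) _ _ inferInstance
  rw [← k₁_hom]
  infer_instance

end Groth.Agent.Lib.Helper19.TorusLft
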