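import Mathlib
import Groth.Prelude.Def_Red
import Groth.Prelude.Def_GmPts
import Groth.Agent.Lib.Helper15.GaPts
import Groth.Agent.Lib.Helper19.Grp.AdjPoints
import Groth.Agent.Lib.Helper19.Torus.SemiKernel
import Groth.Agent.Lib.Helper19.Torus.EtaleNormal

/-!
# Triviality of field-valued points of the kernel of a homomorphism from `T ⋉ 𝔾_a`
-/

set_option autoImplicit false
set_option linter.style.haveILetI false
set_option linter.unusedSectionVars false
universe u

open CategoryTheory CategoryTheory.Limits AlgebraicGeometry MonoidalCategory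
  CartesianMonoidalCategory MonObj GrpObj

namespace Groth.Agent.Lib.Helper19.SemiKernel


/-- A morphism from a connected scheme to `N` meeting an open and closed "point" `e : Y ⟶ N`
factors through it. -/
theorem exists_factor_of_clopen {T N Y W' : Scheme.{u}} [PreconnectedSpace T] [Nonempty W']
    (e : Y ⟶ N) [IsOpenImmersion e] [IsClosedImmersion e] (c : T ⟶ N) (w : W' ⟶ T) (w' : W' ⟶ Y)
    (hw : w ≫ c = w' ≫ e) : ∃ d : T ⟶ Y, c = d ≫ e := by
  let p := pullback.snd e c
  haveI : IsOpenImmersion p := inferInstance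
  haveI : IsClosedImmersion p := inferInstance
  have hclopen : IsClopen (Set.range p) :=
    ⟨p.isClosedEmbedding.isClosed_range, p.isOpenEmbedding.isOpen_range⟩
  have hne : (Set.range p).Nonempty := by
    obtain ⟨w₀⟩ := ‹Nonempty W'›
    refine ⟨w w₀, ?_⟩
    have : w = pullback.lift w' w hw.symm ≫ p := by rw [pullback.lift_snd]
    rw [this, Scheme.Hom.comp_apply]
    exact ⟨_, rfl⟩
  have huniv : Set.range p = Set.univ := hclopen.eq_univ hne
  haveI : Surjective p := ⟨fun x => by
    have : x ∈ Set.range p := huniv ▸ Set.mem_univ x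
    exact this⟩
  haveI : IsIso p := (isIso_iff_isOpenImmersion_and_surjective _).mpr ⟨inferInstance, inferInstance⟩
  refine ⟨inv p ≫ pullback.fst e c, ?_⟩
  rw [Category.assoc, pullback.condition, IsIso.inv_hom_id_assoc]

/-- A section of a morphism whose diagonal is an open immersion is an open immersion. -/
theorem isOpenImmersion_of_section {X Y : Scheme.{u}} (r : X ⟶ Y)
    [IsOpenImmersion (pullback.diagonal r)] (σ : Y ⟶ X) (h : σ ≫ r = 𝟙 Y) : IsOpenImmersion σ := by
  have hsq : IsPullback σ σ (pullback.diagonal r)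
      (pullback.lift (𝟙 X) (r ≫ σ) (by rw [Category.id_comp, Category.assoc, h, Category.comp_id])) := by
    refine ⟨⟨?_⟩, ⟨PullbackCone.IsLimit.mk _ (fun s => s.fst ≫ r) ?_ ?_ ?_⟩⟩
    · apply pullback.hom_ext
      · rw [Category.assoc, Category.assoc, pullback.diagonal_fst, pullback.lift_fst]
      · rw [Category.assoc, Category.assoc, pullback.diagonal_snd, pullback.lift_snd,
          Category.comp_id, ← Category.assoc, h, Category.id_comp]
    · intro s
      have h1 := congrArg (· ≫ pullback.fst r r) s.condition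
      have h2 := congrArg (· ≫ pullback.snd r r) s.condition
      simp only [Category.assoc, pullback.diagonal_fst, pullback.diagonal_snd, pullback.lift_fst,
        pullback.lift_snd, Category.comp_id] at h1 h2
      exact (Category.assoc s.fst r σ).trans ((congrArg (· ≫ r ≫ σ) h1).trans h2.symm)
    · intro s
      have h1 := congrArg (· ≫ pullback.fst r r) s.condition
      have h2 := congrArg (· ≫ pullback.snd r r) s.condition
      simp only [Category.assoc, pullback.diagonal_fst, pullback.diagonal_snd, pullback.lift_fst,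
        pullback.lift_snd, Category.comp_id] at h1 h2
      exact (Category.assoc s.fst r σ).trans
        ((congrArg (· ≫ r ≫ σ) h1).trans (h2.symm.trans h1))
    · intro s m hm _
      have := congrArg (· ≫ r) hm
      simp only [Category.assoc, h, Category.comp_id] at this
      exact this
  exact MorphismProperty.of_isPullback (P := @IsOpenImmersion) hsq inferInstance



variable {S : Scheme.{u}} {P G : Over S} [GrpObj P] [GrpObj G] (f : P ⟶ G) [IsMonHom f]

/-- The unit point of the fibre of the kernel over a field-valued point. -/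
noncomputable def eN {S' : Scheme.{u}} (g : S' ⟶ S) : S' ⟶ pullback (π f) g :=
  pullback.lift (g ≫ e₀ f) (𝟙 _) (by rw [Category.assoc, e₀_π, Category.comp_id, Category.id_comp])

lemma eN_fst {S' : Scheme.{u}} (g : S' ⟶ S) : eN f g ≫ pullback.fst (π f) g = g ≫ e₀ f :=
  pullback.lift_fst _ _ _

lemma eN_snd {S' : Scheme.{u}} (g : S' ⟶ S) : eN f g ≫ pullback.snd (π f) g = 𝟙 _ :=
  pullback.lift_snd _ _ _

theorem isOpenImmersion_eN {K : Type u} [Field K] (g : Spec (CommRingCat.of K) ⟶ S)
    [LocallyOfFiniteType (π f)] (W : (K₀ f).Opens) (hW : FormallyUnramified (W.ι ≫ π f))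
    (hgW : (e₀ f) (g (IsLocalRing.closedPoint K)) ∈ W) : IsOpenImmersion (eN f g) := by
  set p₁ := pullback.fst (π f) g with hp₁
  set ν := pullback.snd (π f) g with hν
  let WN : (pullback (π f) g).Opens := p₁ ⁻¹ᵁ W
  have sq' : IsPullback (p₁ ∣_ W) (WN.ι ≫ ν) (W.ι ≫ π f) g :=
    (isPullback_morphismRestrict p₁ W).paste_vert (IsPullback.of_hasPullback (π f) g)
  haveI : FormallyUnramified (WN.ι ≫ ν) :=
    MorphismProperty.of_isPullback (P := @FormallyUnramified) sq' hW
  haveI : LocallyOfFiniteType (WN.ι ≫ ν) := inferInstance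
  haveI : IsOpenImmersion (pullback.diagonal (WN.ι ≫ ν)) := inferInstance
  haveI hsub : Subsingleton ↥(Spec (CommRingCat.of K)) :=
    inferInstanceAs (Subsingleton (PrimeSpectrum K))
  have hrange : Set.range (eN f g) ⊆ WN.ι.opensRange := by
    rintro _ ⟨y, rfl⟩
    have hy : y = IsLocalRing.closedPoint K := Subsingleton.elim _ _
    rw [Scheme.Opens.opensRange_ι]
    change p₁ ((eN f g) y) ∈ W
    rw [← Scheme.Hom.comp_apply, eN_fst, Scheme.Hom.comp_apply, hy]
    exact hgW
  let σ : Spec (CommRingCat.of K) ⟶ WN := IsOpenImmersion.lift WN.ι (eN f g) hrange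
  have hσ : σ ≫ WN.ι = eN f g := IsOpenImmersion.lift_fac _ _ _
  have hsec : σ ≫ (WN.ι ≫ ν) = 𝟙 _ := by rw [← Category.assoc, hσ, eN_snd]
  haveI : IsOpenImmersion σ := isOpenImmersion_of_section (WN.ι ≫ ν) σ hsec
  rw [← hσ]
  infer_instance

theorem isClosedImmersion_eN {K : Type u} [Field K] (g : Spec (CommRingCat.of K) ⟶ S) :
    IsClosedImmersion (eN f g) := by
  haveI hsub : Subsingleton ↥(Spec (CommRingCat.of K)) :=
    inferInstanceAs (Subsingleton (PrimeSpectrum K))
  exact isClosedImmersion_of_comp_eq_id (pullback.snd (π f) g) (eN f g) (eN_snd f g)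



variable {S : Scheme.{u}}

/-- If the restriction of `a` to the base change of its source is trivial, then its base change is
trivial. -/
theorem pullback_map_eq_one {S' : Scheme.{u}} (g : S' ⟶ S) {X Y : Over S} [GrpObj Y] (a : X ⟶ Y)
    (h : (Over.mapPullbackAdj g).counit.app X ≫ a = 1) : (Over.pullback g).map a = 1 := by
  have h1 : (Over.pullback g).map a =
      ((Over.mapPullbackAdj g).homEquiv _ _) ((Over.mapPullbackAdj g).counit.app X ≫ a) := by
    rw [Adjunction.homEquiv_unit, Functor.map_comp, ← Category.assoc,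
      Adjunction.right_triangle_components, Category.id_comp]
  rw [h1, h]
  exact map_one (CommWords.homMulEquiv (Over.mapPullbackAdj g) Y ((Over.pullback g).obj X))


theorem eq_one_of_field_point
    {G T P : Over S} [GrpObj G] [GrpObj T] [GrpObj P]
    (α : T ⟶ Red.Gm S) [IsMonHom α]
    (jT : T ⟶ P) [IsMonHom jT] (jU : Red.Ga S ⟶ P) [IsMonHom jU] [IsIso ((jT ⊗ₘ jU) ≫ μ[P])]
    (hconj : ∀ (X : Over S) (t : X ⟶ T) (x x' : X ⟶ Red.Ga S),
      Red.gaFn x' = Red.gmFn (t ≫ α) * Red.gaFn x →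
      (t ≫ jT) * (x ≫ jU) * (t ≫ jT)⁻¹ = x' ≫ jU)
    (f : P ⟶ G) [IsMonHom f] [Mono (jT ≫ f)] [LocallyOfFiniteType (π f)]
    (W : (K₀ f).Opens) (hW : FormallyUnramified (W.ι ≫ π f))
    {K : Type u} [Field K] (g : Spec (CommRingCat.of K) ⟶ S)
    [PreconnectedSpace ↑(pullback T.hom g)]
    (hα : (Over.pullback g).map α ≠ 1)
    (hgW : (e₀ f) (g (IsLocalRing.closedPoint K)) ∈ W)
    (x : Over.mk g ⟶ P) (hx : x ≫ f = 1) : x = 1 := by
  -- the objects
  let Tg : Over S := (Over.map g).obj ((Over.pullback g).obj T)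
  let p₁ : Tg ⟶ T := (Over.mapPullbackAdj g).counit.app T
  have hp₁ : p₁.left = pullback.fst T.hom g := by simp [p₁]
  let p₂ : Tg ⟶ Over.mk g := Over.homMk (pullback.snd T.hom g) rfl
  have hp₂ : p₂.left = pullback.snd T.hom g := rfl
  let ε : Over.mk g ⟶ Tg := Over.homMk (pullback.lift (g ≫ unitSec T) (𝟙 _)
    (by rw [Category.assoc, unitSec_hom, Category.comp_id, Category.id_comp])) (by
      change pullback.lift _ _ _ ≫ pullback.snd T.hom g ≫ g = g
      rw [pullback.lift_snd_assoc]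
      exact Category.id_comp g)
  have hε₂ : ε ≫ p₂ = 𝟙 _ := by
    apply Over.OverMorphism.ext
    change pullback.lift _ _ _ ≫ pullback.snd T.hom g = 𝟙 _
    rw [pullback.lift_snd]
    rfl
  have hε₁ : ε ≫ p₁ = 1 := by
    rw [eq_one_iff_left, Over.comp_left, hp₁]
    change pullback.lift _ _ _ ≫ pullback.fst T.hom g = _
    rw [pullback.lift_fst]
    rfl
  obtain ⟨t₀, u₀, hy⟩ := Groth.Agent.Lib.Helper19.EtaleNormal.exists_decomp jT jU x
  -- the commutator-like point
  obtain ⟨m, hm⟩ : ∃ m, m = (p₁ ≫ jT) * (p₂ ≫ x) * (p₁ ≫ jT)⁻¹ := ⟨_, rfl⟩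
  obtain ⟨c, hc⟩ : ∃ c, c = m * (p₂ ≫ x)⁻¹ := ⟨_, rfl⟩
  have hcf : c ≫ f = 1 := by
    rw [hc, hm, mul_comp, mul_comp, mul_comp, GrpObj.inv_comp, GrpObj.inv_comp, Category.assoc p₂,
      hx, MonObj.comp_one]
    group
  have hεc : ε ≫ c = 1 := by
    rw [hc, hm, comp_mul, comp_mul, comp_mul, GrpObj.comp_inv, GrpObj.comp_inv,
      ← Category.assoc ε p₁, hε₁, MonObj.one_comp, ← Category.assoc ε p₂, hε₂, Category.id_comp]
    group
  -- rigidity
  have hc1 : c = 1 := by
    apply lift_eq_of_eq_one f c hcf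
    haveI : IsOpenImmersion (eN f g) := isOpenImmersion_eN f g W hW hgW
    haveI : IsClosedImmersion (eN f g) := isClosedImmersion_eN f g
    haveI : Nonempty ↥(Over.mk g).left := inferInstanceAs (Nonempty (PrimeSpectrum K))
    let chat : pullback T.hom g ⟶ pullback (π f) g :=
      pullback.lift (lift f c hcf) (pullback.snd T.hom g) (lift_π f c hcf)
    have hw : ε.left ≫ chat = 𝟙 _ ≫ eN f g := by
      rw [Category.id_comp]
      apply pullback.hom_ext
      · rw [Category.assoc, pullback.lift_fst, eN_fst, ← cancel_mono (k₁ f), Category.assoc,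
          lift_k₁, ← Over.comp_left, hεc, one_left, Category.assoc, e₀_k₁]
        rfl
      · rw [Category.assoc, pullback.lift_snd, eN_snd]
        exact congrArg (fun φ => φ.left) hε₂
    obtain ⟨d, hd⟩ := exists_factor_of_clopen (eN f g) chat ε.left (𝟙 _) hw
    have hd2 : d = pullback.snd T.hom g := by
      have := congrArg (· ≫ pullback.snd (π f) g) hd
      simp only [Category.assoc, eN_snd, Category.comp_id] at this
      rw [← this, pullback.lift_snd]
    have := congrArg (· ≫ pullback.fst (π f) g) hd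
    simp only [Category.assoc, eN_fst] at this
    rw [pullback.lift_fst, hd2] at this
    rw [this]
    rfl
  have hm' : (p₁ ≫ jT) * (p₂ ≫ x) * (p₁ ≫ jT)⁻¹ = p₂ ≫ x := by
    rw [← hm]
    rw [hc] at hc1
    exact mul_inv_eq_one.mp hc1
  have hcv : p₂ ≫ x = ((p₂ ≫ t₀) ≫ jT) * ((p₂ ≫ u₀) ≫ jU) := by
    rw [hy, comp_mul, Category.assoc, Category.assoc]
  obtain ⟨c', hc'⟩ : ∃ c', c' = p₂ ≫ t₀ := ⟨_, rfl⟩
  obtain ⟨v, hv⟩ : ∃ v, v = p₂ ≫ u₀ := ⟨_, rfl⟩
  rw [← hc', ← hv] at hcv
  rw [hcv] at hm'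
  have hx' := hconj Tg p₁ v (Groth.Agent.Lib.Helper15.GaPts.ptOfFn
    (Red.gmFn (p₁ ≫ α) * Red.gaFn v)) (Groth.Agent.Lib.Helper15.GaPts.gaFn_ptOfFn _)
  have hgrp : (p₁ ≫ jT) * ((c' ≫ jT) * (v ≫ jU)) * (p₁ ≫ jT)⁻¹ =
      ((p₁ * c' * p₁⁻¹) ≫ jT) * ((p₁ ≫ jT) * (v ≫ jU) * (p₁ ≫ jT)⁻¹) := by
    rw [mul_comp, mul_comp, GrpObj.inv_comp]
    group
  rw [hgrp, hx'] at hm'
  have hvv := Groth.Agent.Lib.Helper19.EtaleNormal.snd_eq_of_mul_eq jT jU hm'
  have hfn := congrArg Red.gaFn hvv
  rw [Groth.Agent.Lib.Helper15.GaPts.gaFn_ptOfFn] at hfn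
  by_cases hu : Red.gaFn u₀ = 0
  · have hu1 : u₀ = 1 := by
      apply Groth.Agent.Lib.Helper15.GaPts.eq_of_gaFn_eq
      rw [hu, Groth.Agent.Lib.Helper15.GaPts.gaFn_one]
    rw [hu1, MonObj.one_comp, _root_.mul_one] at hy
    have ht : t₀ = 1 := by
      rw [← cancel_mono (jT ≫ f), ← Category.assoc, ← hy, hx, MonObj.one_comp]
    rw [hy, ht, MonObj.one_comp]
  · exfalso
    apply hα
    apply pullback_map_eq_one
    apply GmPts.gmFn_injective
    change Red.gmFn (p₁ ≫ α) = Red.gmFn 1
    rw [GmPts.gmFn_one]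
    have hfield : IsField Γ((Over.mk g).left, ⊤) :=
      MulEquiv.isField (Field.toIsField K)
        (Scheme.ΓSpecIso (CommRingCat.of K)).commRingCatIsoToRingEquiv.toMulEquiv
    obtain ⟨b, hb⟩ := hfield.mul_inv_cancel hu
    have hunit : IsUnit (Red.gaFn v) := by
      rw [hv, Groth.Agent.Lib.Helper15.GaPts.gaFn_comp]
      exact (IsUnit.of_mul_eq_one b hb).map _
    exact hunit.mul_left_injective (by
      change Red.gmFn (p₁ ≫ α) * Red.gaFn v = 1 * Red.gaFn v
      rw [hfn, _root_.one_mul])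

end Groth.Agent.Lib.Helper19.SemiKernel
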