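import Mathlib
import Groth.Prelude.Def_Red
import Groth.Agent.Lib.Helper19.Torus.SemiKernel
import Groth.Agent.Lib.Helper19.UnramifiedFiber

/-!
# The kernel scheme is unramified near the unit over a point where the fibre is a monomorphism
-/

set_option autoImplicit false
set_option linter.style.haveILetI false
set_option linter.unusedSectionVars false
universe u

open CategoryTheory CategoryTheory.Limits AlgebraicGeometry MonoidalCategory
  CartesianMonoidalCategory MonObj GrpObj

namespace Groth.Agent.Lib.Helper19.SemiKernel

variable {S : Scheme.{u}} {P G : Over S} [GrpObj P] [GrpObj G] (f : P ⟶ G) [IsMonHom f]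

/-- If the base change of `f` along `g` is a monomorphism then so is the base change of the
kernel. -/
theorem mono_snd_of_mono_pullback_map {S' : Scheme.{u}} (g : S' ⟶ S)
    [Mono ((Over.pullback g).map f)] : Mono (pullback.snd (π f) g) := by
  have hfst : ((Over.pullback g).map f).left ≫ pullback.fst G.hom g =
      pullback.fst P.hom g ≫ f.left := by
    simp only [Over.pullback_map_left]
    exact pullback.lift_fst _ _ _
  have hsnd : ((Over.pullback g).map f).left ≫ pullback.snd G.hom g = pullback.snd P.hom g := by
    simp only [Over.pullback_map_left]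
    exact pullback.lift_snd _ _ _
  haveI : Mono ((Over.pullback g).map f).left := inferInstance
  constructor
  intro Z a b hab
  apply pullback.hom_ext _ hab
  rw [← cancel_mono (k₁ f)]
  have hA : (a ≫ pullback.fst (π f) g ≫ k₁ f) ≫ P.hom = (a ≫ pullback.snd (π f) g) ≫ g := by
    rw [Category.assoc, Category.assoc, k₁_hom, pullback.condition, Category.assoc]
  have hB : (b ≫ pullback.fst (π f) g ≫ k₁ f) ≫ P.hom = (a ≫ pullback.snd (π f) g) ≫ g := by
    rw [Category.assoc, Category.assoc, k₁_hom, pullback.condition, hab, Category.assoc]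
  have key : pullback.lift _ _ hA = pullback.lift _ _ hB := by
    rw [← cancel_mono ((Over.pullback g).map f).left]
    apply pullback.hom_ext
    · rw [Category.assoc, Category.assoc, hfst, pullback.lift_fst_assoc, pullback.lift_fst_assoc]
      simp only [Category.assoc]
      rw [k₁_comp, pullback.condition_assoc, reassoc_of% hab]
    · rw [Category.assoc, Category.assoc, hsnd, pullback.lift_snd, pullback.lift_snd]
  have := congrArg (· ≫ pullback.fst P.hom g) key
  simp only [pullback.lift_fst] at this
  simpa using this

theorem exists_nhd_unramified [LocallyOfFiniteType (π f)] (s₀ : S)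
    [Mono ((Over.pullback (S.fromSpecResidueField s₀)).map f)] :
    ∃ W : (K₀ f).Opens, (e₀ f) s₀ ∈ W ∧ FormallyUnramified (W.ι ≫ π f) := by
  set ι₀ := S.fromSpecResidueField s₀ with hι₀
  haveI : Mono (pullback.snd (π f) ι₀) := mono_snd_of_mono_pullback_map f ι₀
  haveI : IsIso (pullback.diagonal (pullback.snd (π f) ι₀)) :=
    (pullback.isIso_diagonal_iff _).mpr inferInstance
  haveI : FormallyUnramified (pullback.snd (π f) ι₀) := inferInstance
  have hpt : (π f) ((e₀ f) s₀) = ι₀ (IsLocalRing.closedPoint (S.residueField s₀)) := by
    rw [← Scheme.Hom.comp_apply, e₀_π]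
    exact (Scheme.fromSpecResidueField_apply s₀ _).symm
  obtain ⟨x', hx'1, -⟩ := Scheme.Pullback.exists_preimage_pullback _ _ hpt
  obtain ⟨W, hW, hW2⟩ := exists_nhd_formallyUnramified_of_pullback (π f) ι₀ x'
    ⟨⊤, trivial, MorphismProperty.comp_mem _ _ _
      (inferInstance : FormallyUnramified (⊤ : (pullback (π f) ι₀).Opens).ι) inferInstance⟩
  exact ⟨W, hx'1 ▸ hW, hW2⟩

end Groth.Agent.Lib.Helper19.SemiKernel
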