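import Groth.Agent.Lib.Helper19.Torus.SemiFibre
import Groth.Agent.Lib.Helper19.Torus.SemiKernelUnr

/-!
# A homomorphism from `T ⋉ 𝔾_a` which is a monomorphism on a fibre and on `T` is a monomorphism
near that fibre (modulo finiteness and connectedness inputs on the torus)
-/

set_option autoImplicit false
set_option linter.style.haveILetI false
set_option linter.unusedSectionVars false
universe u

open CategoryTheory CategoryTheory.Limits AlgebraicGeometry MonoidalCategory
  CartesianMonoidalCategory MonObj GrpObj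

namespace Groth.Agent.Lib.Helper19.SemiKernel


variable {S : Scheme.{u}}

/-- Converse of `pullback_map_eq_one`. -/
theorem counit_comp_eq_one {S' : Scheme.{u}} (g : S' ⟶ S) {X Y : Over S} [GrpObj Y] (a : X ⟶ Y)
    (h : (Over.pullback g).map a = 1) : (Over.mapPullbackAdj g).counit.app X ≫ a = 1 := by
  have h1 : (Over.pullback g).map a =
      ((Over.mapPullbackAdj g).homEquiv _ _) ((Over.mapPullbackAdj g).counit.app X ≫ a) := by
    rw [Adjunction.homEquiv_unit, Functor.map_comp, ← Category.assoc,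
      Adjunction.right_triangle_components, Category.id_comp]
  have h2 := map_one (CommWords.homMulEquiv (Over.mapPullbackAdj g) Y ((Over.pullback g).obj X))
  rw [CommWords.homMulEquiv_apply] at h2
  apply ((Over.mapPullbackAdj g).homEquiv _ _).injective
  rw [← h1, h, h2]

/-- Triviality of a base-changed morphism can be tested after a further flat surjective base
change. -/
theorem pullback_map_eq_one_of_comp {S' S'' : Scheme.{u}} (g' : S' ⟶ S) (c : S'' ⟶ S') [Flat c]
    [Surjective c] {X Y : Over S} [GrpObj Y] (a : X ⟶ Y)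
    (h : (Over.pullback (c ≫ g')).map a = 1) : (Over.pullback g').map a = 1 := by
  apply pullback_map_eq_one
  have h0 := counit_comp_eq_one (c ≫ g') a h
  rw [eq_one_iff_left] at h0 ⊢
  have hl : ∀ (g₀ : S'' ⟶ S), ((Over.mapPullbackAdj g₀).counit.app X).left = pullback.fst X.hom g₀ := by
    intro g₀; simp
  have hl' : ((Over.mapPullbackAdj g').counit.app X).left = pullback.fst X.hom g' := by simp
  rw [Over.comp_left, hl] at h0
  rw [Over.comp_left, hl']
  let θ : pullback X.hom (c ≫ g') ⟶ pullback X.hom g' :=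
    pullback.lift (pullback.fst X.hom (c ≫ g')) (pullback.snd X.hom (c ≫ g') ≫ c)
      (by rw [pullback.condition, Category.assoc])
  have hθ1 : θ ≫ pullback.fst X.hom g' = pullback.fst X.hom (c ≫ g') := pullback.lift_fst _ _ _
  have hθ2 : θ ≫ pullback.snd X.hom g' = pullback.snd X.hom (c ≫ g') ≫ c := pullback.lift_snd _ _ _
  have sq : IsPullback θ (pullback.snd X.hom (c ≫ g')) (pullback.snd X.hom g') c := by
    refine IsPullback.of_right ?_ hθ2 (IsPullback.of_hasPullback X.hom g')
    rw [hθ1]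
    exact IsPullback.of_hasPullback X.hom (c ≫ g')
  haveI : Flat θ := MorphismProperty.of_isPullback (P := @Flat) sq.flip inferInstance
  haveI : Surjective θ := MorphismProperty.of_isPullback (P := @Surjective) sq.flip inferInstance
  haveI : Epi θ := Flat.epi_of_flat_of_surjective θ
  rw [← cancel_epi θ, reassoc_of% hθ1, h0]
  change (pullback.snd X.hom (c ≫ g') ≫ c ≫ g') ≫ unitSec Y = θ ≫ (pullback.snd X.hom g' ≫ g') ≫ unitSec Y
  simp only [Category.assoc]
  rw [reassoc_of% hθ2]

theorem pullback_map_ne_one_of_geomPt {K : Type u} [Field K] [IsAlgClosed K]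
    (g : Spec (CommRingCat.of K) ⟶ S) {X Y : Over S} [GrpObj Y] (a : X ⟶ Y)
    (h : (Over.pullback (Red.geomPt (g (IsLocalRing.closedPoint K)))).map a ≠ 1) :
    (Over.pullback g).map a ≠ 1 := by
  intro h1
  apply h
  set s := g (IsLocalRing.closedPoint K) with hs
  let φ := Scheme.descResidueField (Scheme.stalkClosedPointTo g)
  have ht : Spec.map φ ≫ S.fromSpecResidueField s = g :=
    Scheme.descResidueField_stalkClosedPointTo_fromSpecResidueField K S g
  letI : Algebra (S.residueField s) K := φ.hom.toAlgebra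
  let l : AlgebraicClosure (S.residueField s) →ₐ[S.residueField s] K := IsAlgClosed.lift
  let c : Spec (CommRingCat.of K) ⟶ Spec (CommRingCat.of (AlgebraicClosure (S.residueField s))) :=
    Spec.map (CommRingCat.ofHom l.toRingHom)
  have hc : c ≫ Red.geomPt s = g := by
    rw [← ht]
    unfold Red.geomPt
    rw [← Category.assoc, ← Spec.map_comp]
    congr 2
    ext x
    exact l.commutes x
  haveI : Subsingleton ↥(Spec (CommRingCat.of (AlgebraicClosure (S.residueField s)))) :=
    inferInstanceAs (Subsingleton (PrimeSpectrum (AlgebraicClosure (S.residueField s))))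
  haveI : Flat c := inferInstance
  haveI : Surjective c := ⟨fun y => ⟨IsLocalRing.closedPoint K, Subsingleton.elim _ _⟩⟩
  apply pullback_map_eq_one_of_comp (Red.geomPt s) c a
  have : ∀ (g₂ : Spec (CommRingCat.of K) ⟶ S), g₂ = g → (Over.pullback g₂).map a = 1 := by
    rintro _ rfl; exact h1
  exact this _ hc

/-- If every geometric point of the kernel scheme over the open `U` is the unit, and the kernel is
unramified near the unit section over `U`, then `f` is a monomorphism over `U`. -/
theorem mono_pullback_map_of_forall_pt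
    {G P : Over S} [GrpObj G] [GrpObj P] (f : P ⟶ G) [IsMonHom f] [LocallyOfFiniteType (π f)]
    (W : (K₀ f).Opens) (hW : FormallyUnramified (W.ι ≫ π f)) (U : S.Opens)
    (hUW : U ≤ (e₀ f) ⁻¹ᵁ W)
    (hpt : ∀ (K : Type u) [Field K] [IsAlgClosed K] (y : Spec (CommRingCat.of K) ⟶ K₀ f),
      (π f) (y (IsLocalRing.closedPoint K)) ∈ U → y = (y ≫ π f) ≫ e₀ f) :
    Mono ((Over.pullback U.ι).map f) := by
  let V : (K₀ f).Opens := (π f) ⁻¹ᵁ U
  -- V ≤ W
  have hVW : V ≤ W := by
    intro z hz
    let K := AlgebraicClosure ((K₀ f).residueField z)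
    let y : Spec (CommRingCat.of K) ⟶ K₀ f :=
      Spec.map (CommRingCat.ofHom (algebraMap ((K₀ f).residueField z) K)) ≫
        (K₀ f).fromSpecResidueField z
    have hyz : y (IsLocalRing.closedPoint K) = z := by
      rw [Scheme.Hom.comp_apply]
      exact Scheme.fromSpecResidueField_apply z _
    have h1 := hpt K y (by rw [hyz]; exact hz)
    have h2 := congrArg (fun φ : Spec (CommRingCat.of K) ⟶ K₀ f => φ (IsLocalRing.closedPoint K)) h1
    simp only [Scheme.Hom.comp_apply] at h2
    rw [hyz] at h2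
    rw [h2]
    exact hUW hz
  let π' : (V : Scheme.{u}) ⟶ S := V.ι ≫ π f
  haveI : LocallyOfFiniteType π' := inferInstance
  haveI : FormallyUnramified π' := by
    have : π' = (K₀ f).homOfLE hVW ≫ (W.ι ≫ π f) := by
      rw [← Category.assoc, Scheme.homOfLE_ι]
    rw [this]
    exact MorphismProperty.comp_mem _ _ _
      (inferInstance : FormallyUnramified ((K₀ f).homOfLE hVW)) hW
  have huniv : UniversallyInjective π' := by
    refine ((tfae_universallyInjective π').out 1 0).mp ?_
    intro K _ g₁ g₂ hg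
    dsimp only at hg
    let Kb := AlgebraicClosure K
    let c : Spec (CommRingCat.of Kb) ⟶ Spec (CommRingCat.of K) :=
      Spec.map (CommRingCat.ofHom (algebraMap K Kb))
    haveI : Subsingleton ↥(Spec (CommRingCat.of K)) :=
      inferInstanceAs (Subsingleton (PrimeSpectrum K))
    haveI : Flat c := inferInstance
    haveI : Surjective c := ⟨fun y => ⟨IsLocalRing.closedPoint Kb, Subsingleton.elim _ _⟩⟩
    haveI : Epi c := Flat.epi_of_flat_of_surjective c
    have hmem : ∀ g₀ : Spec (CommRingCat.of K) ⟶ V,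
        (π f) ((c ≫ g₀ ≫ V.ι) (IsLocalRing.closedPoint Kb)) ∈ U := by
      intro g₀
      rw [Scheme.Hom.comp_apply, Scheme.Hom.comp_apply]
      exact (g₀ (c (IsLocalRing.closedPoint Kb))).2
    have e1 := hpt Kb (c ≫ g₁ ≫ V.ι) (hmem g₁)
    have e2 := hpt Kb (c ≫ g₂ ≫ V.ι) (hmem g₂)
    have e3 : (c ≫ g₁ ≫ V.ι) ≫ π f = (c ≫ g₂ ≫ V.ι) ≫ π f := by
      simp only [Category.assoc]
      change c ≫ g₁ ≫ π' = c ≫ g₂ ≫ π'
      rw [hg]
    rw [← cancel_mono V.ι, ← cancel_epi c, e1, e2, e3]
  haveI : Surjective (pullback.diagonal π') := (UniversallyInjective.iff_diagonal π').mp huniv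
  haveI : IsIso (pullback.diagonal π') :=
    (isIso_iff_isOpenImmersion_and_surjective _).mpr ⟨inferInstance, inferInstance⟩
  haveI : Mono π' := (pullback.isIso_diagonal_iff π').mp inferInstance
  -- the final monomorphism
  have hfst : ((Over.pullback U.ι).map f).left ≫ pullback.fst G.hom U.ι =
      pullback.fst P.hom U.ι ≫ f.left := by
    simp only [Over.pullback_map_left]
    exact pullback.lift_fst _ _ _
  have hsnd : ((Over.pullback U.ι).map f).left ≫ pullback.snd G.hom U.ι =
      pullback.snd P.hom U.ι := by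
    simp only [Over.pullback_map_left]
    exact pullback.lift_snd _ _ _
  haveI : Mono ((Over.pullback U.ι).map f).left := by
    constructor
    intro Z a b hab
    have hh : a ≫ pullback.snd P.hom U.ι = b ≫ pullback.snd P.hom U.ι := by
      rw [← hsnd, ← Category.assoc, hab, Category.assoc]
    let h := a ≫ pullback.snd P.hom U.ι
    let A : Over.mk (h ≫ U.ι) ⟶ P := Over.homMk (a ≫ pullback.fst P.hom U.ι) (by
      change (a ≫ pullback.fst P.hom U.ι) ≫ P.hom = h ≫ U.ι
      rw [Category.assoc, pullback.condition, Category.assoc])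
    let B : Over.mk (h ≫ U.ι) ⟶ P := Over.homMk (b ≫ pullback.fst P.hom U.ι) (by
      change (b ≫ pullback.fst P.hom U.ι) ≫ P.hom = h ≫ U.ι
      rw [Category.assoc, pullback.condition, ← Category.assoc, ← hh, Category.assoc])
    have hAB : A ≫ f = B ≫ f := by
      apply Over.OverMorphism.ext
      change (a ≫ pullback.fst P.hom U.ι) ≫ f.left = (b ≫ pullback.fst P.hom U.ι) ≫ f.left
      rw [Category.assoc, Category.assoc, ← hfst, ← Category.assoc, hab, Category.assoc]
    have hD : (A * B⁻¹) ≫ f = 1 := by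
      rw [mul_comp, GrpObj.inv_comp, hAB, mul_inv_cancel]
    have hrange : ∀ (d : Z ⟶ K₀ f), d ≫ π f = h ≫ U.ι → Set.range d ⊆ V.ι.opensRange := by
      rintro d hd _ ⟨z, rfl⟩
      rw [Scheme.Opens.opensRange_ι]
      change (π f) (d z) ∈ U
      rw [← Scheme.Hom.comp_apply, hd, Scheme.Hom.comp_apply]
      exact (h z).2
    have hd1 : lift f (A * B⁻¹) hD ≫ π f = h ≫ U.ι := lift_π f _ hD
    have hd2 : ((h ≫ U.ι) ≫ e₀ f) ≫ π f = h ≫ U.ι := by
      rw [Category.assoc, e₀_π, Category.comp_id]
    have key : lift f (A * B⁻¹) hD = (h ≫ U.ι) ≫ e₀ f := by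
      rw [← IsOpenImmersion.lift_fac V.ι _ (hrange _ hd1),
        ← IsOpenImmersion.lift_fac V.ι _ (hrange _ hd2)]
      congr 1
      rw [← cancel_mono π']
      change IsOpenImmersion.lift V.ι _ _ ≫ V.ι ≫ π f = IsOpenImmersion.lift V.ι _ _ ≫ V.ι ≫ π f
      rw [IsOpenImmersion.lift_fac_assoc, IsOpenImmersion.lift_fac_assoc, hd1, hd2]
    have hone : A * B⁻¹ = 1 := lift_eq_of_eq_one f _ hD key
    have hAeqB : A = B := mul_inv_eq_one.mp hone
    apply pullback.hom_ext
    · exact congrArg (fun φ => φ.left) hAeqB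
    · exact hh
  exact Functor.mono_of_mono_map (Over.forget _) (by
    change Mono ((Over.pullback U.ι).map f).left
    infer_instance)


theorem exists_open_mono
    {G T P : Over S} [GrpObj G] [GrpObj T] [GrpObj P]
    (hconn : ∀ (K : Type u) [Field K] (g : Spec (CommRingCat.of K) ⟶ S),
      PreconnectedSpace ↑(pullback T.hom g))
    (α : T ⟶ Red.Gm S) [IsMonHom α] (hα : ∀ s : S, (Over.pullback (Red.geomPt s)).map α ≠ 1)
    (jT : T ⟶ P) [IsMonHom jT] (jU : Red.Ga S ⟶ P) [IsMonHom jU] [IsIso ((jT ⊗ₘ jU) ≫ μ[P])]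
    (hconj : ∀ (X : Over S) (t : X ⟶ T) (x x' : X ⟶ Red.Ga S),
      Red.gaFn x' = Red.gmFn (t ≫ α) * Red.gaFn x →
      (t ≫ jT) * (x ≫ jU) * (t ≫ jT)⁻¹ = x' ≫ jU)
    (s₀ : S) (f : P ⟶ G) [IsMonHom f] [LocallyOfFiniteType (π f)]
    [Mono ((Over.pullback (S.fromSpecResidueField s₀)).map f)] [Mono (jT ≫ f)] :
    ∃ U : S.Opens, s₀ ∈ U ∧ Mono ((Over.pullback U.ι).map f) := by
  obtain ⟨W, hW1, hW2⟩ := exists_nhd_unramified f s₀
  refine ⟨(e₀ f) ⁻¹ᵁ W, hW1, ?_⟩
  apply mono_pullback_map_of_forall_pt f W hW2 _ le_rfl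
  intro K _ _ y hy
  apply eq_of_pt_eq_one
  haveI := hconn K (y ≫ π f)
  refine eq_one_of_field_point α jT jU hconj f W hW2 (y ≫ π f) ?_ ?_ (pt f y) (pt_comp f y)
  · apply pullback_map_ne_one_of_geomPt
    exact hα _
  · rw [Scheme.Hom.comp_apply]
    exact hy

end Groth.Agent.Lib.Helper19.SemiKernel
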